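import Mathlib

/-! Points of the normalization of a reduced one-dimensional Noetherian local ring and the
branches of its completion. -/

set_option autoImplicit false
set_option linter.style.haveILetI false

universe u

open Ideal IsLocalRing

namespace NormBranchLib

section seq

variable {R : Type u} [CommRing R] {I : Ideal R}

theorem seq_sub_mem (f : AdicCompletion.AdicCauchySequence I R) {m n : ℕ} (h : m ≤ n) :
    f n - f m ∈ I ^ m := by
  have h1 := SModEq.sub_mem.1 (f.2 h).symm
  rwa [Ideal.smul_eq_mul, Ideal.mul_top] at h1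

theorem exists_seq (x : AdicCompletion I R) : ∃ f : AdicCompletion.AdicCauchySequence I R,
    ∀ n, AdicCompletion.evalₐ I n x = Ideal.Quotient.mk (I ^ n) (f n) := by
  obtain ⟨f, rfl⟩ := AdicCompletion.mk_surjective I R x
  exact ⟨f, fun n => AdicCompletion.evalₐ_mk I n f⟩

end seq

section dvr

variable (R : Type u) [CommRing R] [IsLocalRing R]

/-- The completion of a local ring with maximal ideal generated by a non-zero-divisor is a domain. -/
theorem eq_zero_or_eq_zero_completion {ϖ : R} (hϖ : maximalIdeal R = span {ϖ})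
    (hnzd : ϖ ∈ nonZeroDivisors R) (x y : AdicCompletion (maximalIdeal R) R) (hxy : x * y = 0) :
    x = 0 ∨ y = 0 := by
  let I := maximalIdeal R
  have hI : I = span {ϖ} := hϖ
  have hIp : ∀ k, I ^ k = span {ϖ ^ k} := fun k => by rw [hI, span_singleton_pow]
  have hϖI : ϖ ∈ I := by rw [hI]; exact mem_span_singleton_self ϖ
  have hform : ∀ (n : ℕ) (a : R), a ∉ I ^ n → ∃ i u, i < n ∧ IsUnit u ∧ a = ϖ ^ i * u := by
    intro n
    induction n with
    | zero => intro a ha; exact absurd (by rw [pow_zero, Ideal.one_eq_top]; trivial) ha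
    | succ n ih =>
      intro a ha
      by_cases hu : IsUnit a
      · exact ⟨0, a, n.succ_pos, hu, by rw [pow_zero, one_mul]⟩
      · have : a ∈ I := hu
        rw [hI, mem_span_singleton] at this
        obtain ⟨b, rfl⟩ := this
        have hb : b ∉ I ^ n := fun hb => ha (by rw [pow_succ']; exact mul_mem_mul hϖI hb)
        obtain ⟨i, u, hi, hu', rfl⟩ := ih b hb
        exact ⟨i + 1, u, Nat.succ_lt_succ hi, hu', by ring⟩
  have hlead : ∀ z : AdicCompletion I R, z ≠ 0 → ∃ i, ∀ N, i < N →
      ∃ u, IsUnit u ∧ AdicCompletion.evalₐ I N z = Ideal.Quotient.mk (I ^ N) (ϖ ^ i * u) := by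
    intro z hz
    obtain ⟨f, hf⟩ := exists_seq z
    obtain ⟨n, hn⟩ : ∃ n, f n ∉ I ^ n := by
      by_contra hc
      push Not at hc
      exact hz (AdicCompletion.ext_evalₐ fun n => by
        rw [map_zero, hf, Ideal.Quotient.eq_zero_iff_mem]; exact hc n)
    obtain ⟨i, u, hi, hu, hfn⟩ := hform n _ hn
    refine ⟨i, fun N hN => ?_⟩
    have hdiff : f N - ϖ ^ i * u ∈ I ^ (i + 1) := by
      rw [← hfn, show f N - f n = (f N - f (i + 1)) - (f n - f (i + 1)) by ring]
      exact sub_mem (seq_sub_mem f hN) (seq_sub_mem f hi)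
    rw [hIp, mem_span_singleton] at hdiff
    obtain ⟨t, ht⟩ := hdiff
    refine ⟨u + ϖ * t, ?_, ?_⟩
    · by_contra hc
      have hm : u + ϖ * t ∈ I := hc
      have := I.sub_mem hm (I.mul_mem_right t hϖI)
      rw [add_sub_cancel_right] at this
      exact (this : ¬ IsUnit u) hu
    · rw [hf]
      exact congrArg _ (by linear_combination ht)
  by_contra hc
  push Not at hc
  obtain ⟨i, hi⟩ := hlead x hc.1
  obtain ⟨j, hj⟩ := hlead y hc.2
  obtain ⟨u, hu, ha⟩ := hi (i + j + 1) (by omega)
  obtain ⟨v, hv, hb⟩ := hj (i + j + 1) (by omega)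
  have h : Ideal.Quotient.mk (I ^ (i + j + 1)) (ϖ ^ i * u * (ϖ ^ j * v)) = 0 := by
    rw [map_mul, ← ha, ← hb, ← map_mul, hxy, map_zero]
  rw [Ideal.Quotient.eq_zero_iff_mem, hIp, mem_span_singleton] at h
  obtain ⟨t, ht⟩ := h
  have h3 : ϖ ^ (i + j) * (u * v - ϖ * t) = 0 := by linear_combination ht
  have h4 : u * v = ϖ * t :=
    sub_eq_zero.1 ((mul_left_mem_nonZeroDivisors_eq_zero_iff (pow_mem hnzd _)).1 h3)
  have h5 : u * v ∈ I := by rw [h4]; exact Ideal.mul_mem_right _ _ hϖI
  exact (h5 : ¬ IsUnit (u * v)) (hu.mul hv)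

end dvr

section normalization

variable (A : Type u) [CommRing A] [IsNoetherianRing A] [IsLocalRing A] [IsReduced A]

variable {A}

theorem exists_mem_maximalIdeal_nonZeroDivisors (hdim : ringKrullDim A = 1) :
    ∃ a ∈ maximalIdeal A, a ∈ nonZeroDivisors A := by
  have hfin := minimalPrimes.finite_of_isNoetherianRing A
  have hnmin : maximalIdeal A ∉ minimalPrimes A := by
    intro h
    have h0 : (maximalIdeal A).height = 0 := Ideal.height_eq_zero_iff.2 h
    have := IsLocalRing.maximalIdeal_height_eq_ringKrullDim (R := A)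
    rw [h0, hdim] at this
    exact one_ne_zero (α := WithBot ℕ∞) this.symm
  have hnot : ¬ ((maximalIdeal A : Set A) ⊆ ⋃ p ∈ (hfin.toFinset : Set (Ideal A)), (p : Set A)) := by
    intro h
    rw [Ideal.subset_union_prime ⊥ ⊥ (fun p hp _ _ => ((hfin.mem_toFinset).1 hp).1.1)] at h
    obtain ⟨p, hp, hle⟩ := h
    have hp' := (hfin.mem_toFinset).1 hp
    exact hnmin ((((maximalIdeal.isMaximal A).eq_of_le hp'.1.1.ne_top hle)).symm ▸ hp')
  obtain ⟨a, ham, ha⟩ := Set.not_subset.1 hnot
  refine ⟨a, ham, mem_nonZeroDivisors_iff_left.2 fun y hy => ?_⟩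
  have hy' : IsNilpotent y := by
    rw [nilpotent_iff_mem_prime]
    intro J hJ
    haveI := hJ
    obtain ⟨p, hp, hpJ⟩ := Ideal.exists_minimalPrimes_le (I := (⊥ : Ideal A)) (J := J) bot_le
    refine hpJ ((hp.1.1.mem_or_mem (show a * y ∈ p by rw [hy]; exact p.zero_mem)).resolve_left fun h => ?_)
    exact ha (Set.mem_iUnion₂.2 ⟨p, (hfin.mem_toFinset).2 hp, h⟩)
  exact hy'.eq_zero

theorem prime_eq_maximalIdeal (hdim : ringKrullDim A = 1) {q : Ideal A} (hq : q.IsPrime) {a : A}
    (ha : a ∈ q) (han : a ∈ nonZeroDivisors A) : q = maximalIdeal A := by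
  have : Ring.KrullDimLE 1 A := Ring.krullDimLE_iff.2 hdim.le
  rcases Ring.krullDimLE_one_iff.1 this q hq with h | h
  · exact absurd han (Set.disjoint_left.1 (Ideal.disjoint_nonZeroDivisors_of_mem_minimalPrimes h) ha)
  · exact IsLocalRing.eq_maximalIdeal h

variable (K : Type u) [CommRing K] [Algebra A K] [IsFractionRing A K]

theorem isArtinianRing_fractionRing (hdim : ringKrullDim A = 1) : IsArtinianRing K := by
  have : IsNoetherianRing K := IsLocalization.isNoetherianRing (nonZeroDivisors A) K inferInstance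
  have hD : Ring.KrullDimLE 0 K := by
    refine Ring.krullDimLE_zero_iff.2 fun Q hQ => ?_
    obtain ⟨M, hM, hle⟩ := Q.exists_le_maximal hQ.ne_top
    have hMd := ((IsLocalization.isPrime_iff_isPrime_disjoint (nonZeroDivisors A) K M).1 hM.isPrime)
    have hQd := ((IsLocalization.isPrime_iff_isPrime_disjoint (nonZeroDivisors A) K Q).1 hQ)
    obtain ⟨a, ham, han⟩ := exists_mem_maximalIdeal_nonZeroDivisors hdim
    have hmin : M.comap (algebraMap A K) ∈ minimalPrimes A := by
      have : Ring.KrullDimLE 1 A := Ring.krullDimLE_iff.2 hdim.le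
      rcases Ring.krullDimLE_one_iff.1 this _ hMd.1 with h | h
      · exact h
      · refine absurd ?_ (Set.disjoint_left.1 hMd.2 han)
        have := IsLocalRing.eq_maximalIdeal h
        rw [SetLike.mem_coe]
        exact this.symm ▸ ham
    have heq : Q.comap (algebraMap A K) = M.comap (algebraMap A K) :=
      le_antisymm (Ideal.comap_mono hle) (hmin.2 ⟨hQd.1, bot_le⟩ (Ideal.comap_mono hle))
    have : Q = M := (IsLocalization.map_comap (nonZeroDivisors A) K Q).symm.trans
      ((congrArg (Ideal.map (algebraMap A K)) heq).trans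
        (IsLocalization.map_comap (nonZeroDivisors A) K M))
    rwa [this]
  exact IsNoetherianRing.isArtinianRing_of_krullDimLE_zero

variable (B : Type u) [CommRing B] [Algebra A B] [Algebra B K] [IsScalarTower A B K]
  [IsIntegralClosure B A K]

/-- An idempotent cutting out a field factor of the total ring of fractions outside `P`. -/
theorem exists_idempotent (hdim : ringKrullDim A = 1) (P : Ideal B) (hP : P.IsPrime) :
    ∃ e : B, IsIdempotentElem (algebraMap B K e) ∧ e ∉ P ∧
      ∀ x : K, x * algebraMap B K e = 0 ∨ ∃ y, x * y = algebraMap B K e := by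
  classical
  have := isArtinianRing_fractionRing K hdim
  have : IsReduced K := isReduced_localizationPreserves (nonZeroDivisors A) K ‹_›
  let E := IsArtinianRing.equivPi K
  let eK : MaximalSpectrum K → K := fun i => E.symm (Pi.single i 1)
  have hE : ∀ i, E (eK i) = Pi.single i 1 := fun i => E.apply_symm_apply _
  have hid : ∀ i, IsIdempotentElem (eK i) := fun i => by
    apply E.injective
    rw [map_mul, hE, ← Pi.single_mul, one_mul]
  have hint : ∀ i, IsIntegral A (eK i) := fun i =>
    ⟨Polynomial.X * (Polynomial.X - 1), Polynomial.monic_X.mul (Polynomial.monic_X_sub_C (1 : A)), by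
      rw [← Polynomial.aeval_def, map_mul, map_sub, map_one, Polynomial.aeval_X, mul_sub, (hid i).eq,
        mul_one, sub_self]⟩
  choose e he using fun i => (IsIntegralClosure.isIntegral_iff (A := B)).1 (hint i)
  have : Fintype (MaximalSpectrum K) := Fintype.ofFinite _
  have hsum : ∑ i, e i = 1 := by
    apply IsIntegralClosure.algebraMap_injective B A K
    rw [map_sum, map_one]
    simp only [he]
    apply E.injective
    rw [map_sum]
    simp only [hE]
    exact (Finset.univ_sum_single (1 : ∀ I : MaximalSpectrum K, K ⧸ I.asIdeal)).trans (map_one E).symm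
  obtain ⟨i, hi⟩ : ∃ i, e i ∉ P := by
    by_contra hc
    push Not at hc
    exact hP.one_notMem (hsum ▸ P.sum_mem fun i _ => hc i)
  refine ⟨e i, (he i).symm ▸ hid i, hi, fun x => ?_⟩
  rw [he]
  letI := Ideal.Quotient.field i.asIdeal
  by_cases hx : E x i = 0
  · left
    apply E.injective
    rw [map_mul, hE, map_zero]
    ext j
    by_cases hj : j = i
    · subst hj; simp [hx]
    · simp [hj]
  · right
    refine ⟨E.symm (Pi.single i (E x i)⁻¹), ?_⟩
    apply E.injective
    rw [map_mul, E.apply_symm_apply, hE]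
    ext j
    by_cases hj : j = i
    · subst hj
      simp [mul_inv_cancel₀ hx]
    · simp [hj]

omit [IsNoetherianRing A] [IsLocalRing A] [IsReduced A] in
theorem aeval_mul_idem {C : Type u} [CommRing C] [Algebra A C] {e : C} (he : IsIdempotentElem e)
    (x : C) (p : Polynomial A) :
    Polynomial.aeval (x * e) p * e = Polynomial.aeval x p * e := by
  induction p using Polynomial.induction_on' with
  | add p q hp hq => rw [map_add, map_add, add_mul, add_mul, hp, hq]
  | monomial n a =>
    rw [Polynomial.aeval_monomial, Polynomial.aeval_monomial, mul_pow, mul_assoc, mul_assoc, mul_assoc,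
      ← pow_succ, he.pow_succ_eq]

omit [IsReduced A] [IsLocalRing A] [IsNoetherianRing A] [IsIntegralClosure B A K] in
theorem exists_conductor [IsIntegralClosure B A K] [Module.Finite A B] :
    ∃ c ∈ nonZeroDivisors A, ∀ b : B, ∃ a : A, algebraMap A B a = algebraMap A B c * b := by
  classical
  obtain ⟨s, hs⟩ := Module.Finite.fg_top (R := A) (M := B)
  obtain ⟨c, hc⟩ := IsLocalization.exist_integer_multiples (nonZeroDivisors A) s
    (fun b => algebraMap B K b)
  refine ⟨c, c.2, fun b => ?_⟩
  have hb : b ∈ Submodule.span A (s : Set B) := by rw [hs]; trivial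
  induction hb using Submodule.span_induction with
  | mem x hx =>
    obtain ⟨a, ha⟩ := hc x hx
    refine ⟨a, IsIntegralClosure.algebraMap_injective B A K ?_⟩
    rw [map_mul, ← IsScalarTower.algebraMap_apply, ← IsScalarTower.algebraMap_apply, ha, Algebra.smul_def]
  | zero => exact ⟨0, by rw [map_zero, mul_zero]⟩
  | add x y _ _ hx hy =>
    obtain ⟨a, ha⟩ := hx
    obtain ⟨b', hb'⟩ := hy
    exact ⟨a + b', by rw [map_add, mul_add, ha, hb']⟩
  | smul r x _ hx =>
    obtain ⟨a, ha⟩ := hx
    exact ⟨r * a, by rw [map_mul, Algebra.smul_def, ha]; ring⟩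

omit [IsReduced A] [IsLocalRing A] [IsNoetherianRing A] [IsIntegralClosure B A K] in
include K in
theorem injective_algebraMap : Function.Injective (algebraMap A B) := fun x y h =>
  IsFractionRing.injective A K (by
    rw [IsScalarTower.algebraMap_apply A B K, h, ← IsScalarTower.algebraMap_apply A B K])

variable [Module.Finite A B] (P : Ideal B) [hP : P.IsMaximal] (R : Type u) [CommRing R]
  [Algebra B R] [IsLocalization.AtPrime R P]

omit [IsReduced A] [IsNoetherianRing A] in
theorem comap_maximal : P.comap (algebraMap A B) = maximalIdeal A := by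
  have : Algebra.IsIntegral A B := Algebra.IsIntegral.of_finite A B
  exact IsLocalRing.eq_maximalIdeal (Ideal.isMaximal_comap_of_isIntegral_of_isMaximal P)

omit [IsReduced A] [IsLocalRing A] [IsNoetherianRing A] [Module.Finite A B] in
theorem exists_field_piece {e : B} (heP : e ∉ P) (he : IsIdempotentElem (algebraMap B K e))
    (hfield : ∀ x : K, x * algebraMap B K e = 0 ∨ ∃ y, x * y = algebraMap B K e) :
    algebraMap B R e = 1 ∧
      (∀ b : B, algebraMap B R b = 0 ↔ algebraMap B K b * algebraMap B K e = 0) ∧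
      (∀ a ∈ nonZeroDivisors A, algebraMap B R (algebraMap A B a) ≠ 0) := by
  have inj := IsIntegralClosure.algebraMap_injective B A K
  have he' : IsIdempotentElem e := inj (by rw [map_mul, he.eq])
  have heR : algebraMap B R e = 1 := by
    have hu : IsUnit (algebraMap B R e) := IsLocalization.map_units R (⟨e, heP⟩ : P.primeCompl)
    exact hu.mul_left_cancel (by rw [← map_mul, he'.eq, mul_one])
  have hker : ∀ b : B, algebraMap B R b = 0 ↔ algebraMap B K b * algebraMap B K e = 0 := by
    intro b
    constructor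
    · intro hb
      obtain ⟨u, hu⟩ := (IsLocalization.map_eq_zero_iff P.primeCompl R b).1 hb
      rcases hfield (algebraMap B K (u : B)) with h | ⟨y, hy⟩
      · refine absurd ?_ (hP.isPrime.mul_notMem u.2 heP)
        rw [show ((u : B) * e) = 0 from inj (by rw [map_mul, h, map_zero])]
        exact P.zero_mem
      · have hu' : algebraMap B K (u : B) * algebraMap B K b = 0 := by rw [← map_mul, hu, map_zero]
        rw [← hy]
        linear_combination y * hu'
    · intro hb
      have : algebraMap B R (b * e) = 0 := by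
        rw [show b * e = 0 from inj (by rw [map_mul, hb, map_zero]), map_zero]
      rwa [map_mul, heR, mul_one] at this
  refine ⟨heR, hker, fun a ha h0 => ?_⟩
  have h1 := (hker _).1 h0
  rw [← IsScalarTower.algebraMap_apply] at h1
  have h2 := (IsLocalization.map_units K (⟨a, ha⟩ : nonZeroDivisors A)).mul_right_eq_zero.1 h1
  exact heP (by rw [show e = 0 from inj (h2.trans (map_zero _).symm)]; exact P.zero_mem)

omit [IsReduced A] [IsLocalRing A] [IsNoetherianRing A] [Module.Finite A B] in
include A in
theorem isDomain_of_piece {e : B} (heP : e ∉ P) (he : IsIdempotentElem (algebraMap B K e))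
    (hfield : ∀ x : K, x * algebraMap B K e = 0 ∨ ∃ y, x * y = algebraMap B K e) : IsDomain R := by
  obtain ⟨-, hker, -⟩ := exists_field_piece (A := A) K B P R heP he hfield
  have : Nontrivial R := (IsLocalization.AtPrime.isLocalRing R P).toNontrivial
  have : NoZeroDivisors R := by
    refine ⟨fun {x y} hxy => ?_⟩
    obtain ⟨b, s, rfl⟩ := IsLocalization.exists_mk'_eq P.primeCompl x
    obtain ⟨b', s', rfl⟩ := IsLocalization.exists_mk'_eq P.primeCompl y
    rw [← IsLocalization.mk'_mul, IsLocalization.mk'_eq_zero_iff] at hxy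
    obtain ⟨u, hu⟩ := hxy
    have h0 : algebraMap B R (b * b') = 0 := (IsLocalization.map_eq_zero_iff P.primeCompl R _).2 ⟨u, hu⟩
    have h1 := (hker _).1 h0
    rw [map_mul] at h1
    have key : ∀ (z : B) (t : P.primeCompl), algebraMap B K z * algebraMap B K e = 0 →
        IsLocalization.mk' R z t = 0 := by
      intro z t hz
      rw [IsLocalization.mk'_eq_zero_iff]
      exact (IsLocalization.map_eq_zero_iff P.primeCompl R _).1 ((hker z).2 hz)
    rcases hfield (algebraMap B K b) with h | ⟨z, hz⟩
    · exact Or.inl (key b s h)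
    · refine Or.inr (key b' s' ?_)
      calc algebraMap B K b' * algebraMap B K e
          = algebraMap B K b' * (algebraMap B K e * (algebraMap B K b * z)) := by rw [hz, he.eq]
        _ = z * (algebraMap B K b * algebraMap B K b' * algebraMap B K e) := by ring
        _ = 0 := by rw [h1, mul_zero]
  exact NoZeroDivisors.to_isDomain R

omit [IsReduced A] [IsLocalRing A] [IsNoetherianRing A] [Module.Finite A B] in
include A in
theorem isIntegrallyClosed_of_piece [IsDomain R] {e : B} (heP : e ∉ P)
    (he : IsIdempotentElem (algebraMap B K e))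
    (hfield : ∀ x : K, x * algebraMap B K e = 0 ∨ ∃ y, x * y = algebraMap B K e)
    [Algebra.IsIntegral A B] : IsIntegrallyClosed R := by
  obtain ⟨heR, hker, hnzd⟩ := exists_field_piece (A := A) K B P R heP he hfield
  have inj := IsIntegralClosure.algebraMap_injective B A K
  let F := FractionRing R
  let j : B →+* F := (algebraMap R F).comp (algebraMap B R)
  have hj0 : ∀ b, j b = 0 ↔ algebraMap B R b = 0 := fun b =>
    ⟨fun h => IsFractionRing.injective R F (h.trans (map_zero _).symm),
      fun h => by show algebraMap R F (algebraMap B R b) = 0; rw [h, map_zero]⟩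
  have hunit : ∀ s : nonZeroDivisors A, IsUnit ((j.comp (algebraMap A B)) s) := fun s =>
    isUnit_iff_ne_zero.2 fun h => hnzd s s.2 ((hj0 _).1 h)
  let ψ : K →+* F := IsLocalization.lift (M := nonZeroDivisors A) hunit
  have hψA : ∀ a : A, ψ (algebraMap A K a) = j (algebraMap A B a) := fun a =>
    IsLocalization.lift_eq hunit a
  have hψB : ∀ b : B, ψ (algebraMap B K b) = j b := by
    intro b
    obtain ⟨⟨a, s⟩, has⟩ := IsLocalization.surj (nonZeroDivisors A) (algebraMap B K b)
    have hB : b * algebraMap A B s = algebraMap A B a := inj (by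
      rw [map_mul, ← IsScalarTower.algebraMap_apply, ← IsScalarTower.algebraMap_apply]; exact has)
    have h := congrArg ψ has
    rw [map_mul, hψA, hψA, ← hB, map_mul] at h
    exact (hunit s).mul_right_cancel h
  have hψker : ∀ x : K, ψ x = 0 → x * algebraMap B K e = 0 := by
    intro x hx
    obtain ⟨⟨a, s⟩, has⟩ := IsLocalization.surj (nonZeroDivisors A) x
    have h := congrArg ψ has
    rw [map_mul, hx, zero_mul, hψA] at h
    have h2 := (hker _).1 ((hj0 _).1 h.symm)
    rw [← IsScalarTower.algebraMap_apply, ← has] at h2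
    exact (IsLocalization.map_units K s).mul_right_eq_zero.1 (by rw [← h2]; ring)
  have hje : j e = 1 := by show algebraMap R F (algebraMap B R e) = 1; rw [heR, map_one]
  have hψe : ψ (algebraMap B K e) = 1 := by rw [hψB, hje]
  -- inverses of nonzero elements come from `K`
  have hinv : ∀ b : B, algebraMap B R b ≠ 0 → ∃ y : K, j b * ψ y = 1 := by
    intro b hb
    obtain ⟨y, hy⟩ := (hfield (algebraMap B K b)).resolve_left fun h => hb ((hker b).2 h)
    exact ⟨y, by rw [← hψB, ← map_mul, hy, hψe]⟩
  refine (isIntegrallyClosed_iff F).2 fun {z} hz => ?_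
  letI : Algebra A F := (j.comp (algebraMap A B)).toAlgebra
  haveI : IsScalarTower A B F := IsScalarTower.of_algebraMap_eq fun a => by
    rw [IsScalarTower.algebraMap_apply B R F]; rfl
  obtain ⟨u, hu⟩ := IsIntegral.exists_multiple_integral_of_isLocalization P.primeCompl z hz
  have hu' : IsIntegral B (j u * z) := by
    have : j u * z = u • z := by
      show j u * z = (u : B) • z
      rw [Algebra.smul_def, IsScalarTower.algebraMap_apply B R F]; rfl
    rwa [this]
  obtain ⟨⟨r, t⟩, hrt⟩ := IsLocalization.surj (nonZeroDivisors R) z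
  obtain ⟨b, s, hb⟩ := IsLocalization.exists_mk'_eq P.primeCompl r
  obtain ⟨c, s', hcs⟩ := IsLocalization.exists_mk'_eq P.primeCompl (t : R)
  have hc0 : algebraMap B R c ≠ 0 := fun h => nonZeroDivisors.ne_zero t.2 (by
    rw [← hcs, IsLocalization.mk'_eq_mul_mk'_one, h, zero_mul])
  have hs0 : algebraMap B R (s : B) ≠ 0 := (IsLocalization.map_units R s).ne_zero
  obtain ⟨y, hy⟩ := hinv c hc0
  obtain ⟨v, hv⟩ := hinv s hs0
  obtain ⟨x₀, hx₀⟩ : ∃ x₀, ψ x₀ = z := by
    refine ⟨algebraMap B K (b * s') * (y * v), ?_⟩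
    have hbF : algebraMap R F r * j (s : B) = j b := by
      show _ * algebraMap R F (algebraMap B R (s : B)) = algebraMap R F (algebraMap B R b)
      rw [← map_mul, ← hb, IsLocalization.mk'_spec]
    have hcF : algebraMap R F (t : R) * j (s' : B) = j c := by
      show _ * algebraMap R F (algebraMap B R (s' : B)) = algebraMap R F (algebraMap B R c)
      rw [← map_mul, ← hcs, IsLocalization.mk'_spec]
    change z * algebraMap R F (t : R) = algebraMap R F r at hrt
    rw [map_mul, hψB, map_mul, map_mul]
    calc j b * j (s' : B) * (ψ y * ψ v)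
        = z * (algebraMap R F (t : R) * j (s' : B)) * j (s : B) * (ψ y * ψ v) := by
          rw [← hbF, ← hrt]; ring
      _ = z * (j c * ψ y) * (j (s : B) * ψ v) := by rw [hcF]; ring
      _ = z := by rw [hy, hv, mul_one, mul_one]
  let x : K := algebraMap B K (u : B) * x₀
  have hxψ : ψ x = j u * z := by rw [map_mul, hψB, hx₀]
  rw [← hxψ] at hu'
  obtain ⟨q, hqm, hq⟩ := isIntegral_trans (R := A) _ hu'
  have hq0 : ψ (Polynomial.aeval x q) = 0 := by
    rw [Polynomial.aeval_def, Polynomial.hom_eval₂,
      show ψ.comp (algebraMap A K) = algebraMap A F from RingHom.ext hψA]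
    exact hq
  have hxe : IsIntegral A (x * algebraMap B K e) := by
    refine ⟨Polynomial.X * q, Polynomial.monic_X.mul hqm, ?_⟩
    rw [← Polynomial.aeval_def, map_mul, Polynomial.aeval_X, mul_assoc,
      mul_comm (algebraMap B K e), aeval_mul_idem he, hψker _ hq0, mul_zero]
  obtain ⟨w, hw⟩ := (IsIntegralClosure.isIntegral_iff (A := B)).1 hxe
  refine ⟨algebraMap B R w * IsLocalization.mk' R 1 u, ?_⟩
  have h1 : algebraMap R F (algebraMap B R w) = j u * z := by
    rw [← hxψ, show algebraMap R F (algebraMap B R w) = ψ (algebraMap B K w) from (hψB w).symm, hw,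
      map_mul, hψe, mul_one]
  have h2 : algebraMap B R (u : B) * IsLocalization.mk' R 1 u = 1 := by
    rw [mul_comm, IsLocalization.mk'_spec, map_one]
  rw [map_mul, h1, mul_right_comm, show j (u : B) = algebraMap R F (algebraMap B R u) from rfl,
    ← map_mul, h2, map_one, one_mul]

include K hP in
/-- The localizations of the normalization at maximal ideals are discrete valuation rings. -/
theorem exists_dvr (hdim : ringKrullDim A = 1) :
    ∃ _ : IsDomain R, IsDiscreteValuationRing R ∧
      ∀ a ∈ nonZeroDivisors A, algebraMap B R (algebraMap A B a) ≠ 0 := by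
  classical
  have : IsNoetherianRing B := IsNoetherianRing.of_finite A B
  have : Algebra.IsIntegral A B := Algebra.IsIntegral.of_finite A B
  obtain ⟨e, he, heP, hfield⟩ := exists_idempotent K B hdim P hP.isPrime
  obtain ⟨heR, hker, hnzd⟩ := exists_field_piece (A := A) K B P R heP he hfield
  have hdom := isDomain_of_piece (A := A) K B P R heP he hfield
  refine ⟨hdom, ?_, hnzd⟩
  have : IsLocalRing R := IsLocalization.AtPrime.isLocalRing R P
  have hic := isIntegrallyClosed_of_piece (A := A) K B P R heP he hfield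
  have inj := IsIntegralClosure.algebraMap_injective B A K
  obtain ⟨a₀, ha₀, ha₀n⟩ := exists_mem_maximalIdeal_nonZeroDivisors hdim
  have hnf : ¬ IsField R := by
    intro hf
    obtain ⟨v, hv⟩ := hf.mul_inv_cancel (hnzd a₀ ha₀n)
    have hu := IsUnit.of_mul_eq_one v hv
    rw [IsLocalization.AtPrime.isUnit_to_map_iff R P] at hu
    exact hu (show algebraMap A B a₀ ∈ P from Ideal.mem_comap.1 ((SetLike.ext_iff.1 (comap_maximal (A := A) B P) a₀).2 ha₀))
  have hdim1 : Ring.DimensionLEOne R := ⟨fun {Q} hQ0 hQ => by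
    obtain ⟨hQB, hdisj⟩ := (IsLocalization.isPrime_iff_isPrime_disjoint P.primeCompl R Q).1 hQ
    have hQP : Q.comap (algebraMap B R) ≤ P := fun z hz => by
      by_contra h
      exact Set.disjoint_left.1 hdisj h hz
    obtain ⟨b, hbQ, hb0⟩ : ∃ b ∈ Q.comap (algebraMap B R), algebraMap B R b ≠ 0 := by
      by_contra hc
      push Not at hc
      refine hQ0 ((IsLocalization.map_comap P.primeCompl R Q).symm.trans ?_)
      exact eq_bot_iff.2 (Ideal.map_le_iff_le_comap.2 fun z hz => Ideal.mem_bot.2 (hc z hz))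
    obtain ⟨y, hy⟩ := (hfield (algebraMap B K b)).resolve_left fun h => hb0 ((hker b).2 h)
    -- an element of `Q` invertible in `K`
    let β : B := b * e + (1 - e)
    have hβ : β ∈ Q.comap (algebraMap B R) := by
      refine Ideal.add_mem _ (Ideal.mul_mem_right _ _ hbQ) ?_
      rw [Ideal.mem_comap, map_sub, map_one, heR, sub_self]
      exact Q.zero_mem
    let γ : K := y * algebraMap B K e + (1 - algebraMap B K e)
    have hβγ : algebraMap B K β * γ = 1 := by
      simp only [β, γ, map_add, map_sub, map_mul, map_one]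
      have h2 := he.eq
      linear_combination (algebraMap B K e * algebraMap B K e) * hy +
        (algebraMap B K e + 2 - algebraMap B K b - y) * h2
    obtain ⟨⟨a, s⟩, has⟩ := IsLocalization.surj (nonZeroDivisors A) γ
    have hsQ : (s : A) ∈ (Q.comap (algebraMap B R)).comap (algebraMap A B) := by
      rw [Ideal.mem_comap, show algebraMap A B s = β * algebraMap A B a from inj (by
        rw [map_mul, ← IsScalarTower.algebraMap_apply, ← IsScalarTower.algebraMap_apply, ← has,
          ← mul_assoc, hβγ, one_mul])]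
      exact Ideal.mul_mem_right _ _ hβ
    have hq := hQB
    have hm : ((Q.comap (algebraMap B R)).comap (algebraMap A B)).IsMaximal :=
      (prime_eq_maximalIdeal hdim (Ideal.IsPrime.comap (hK := hq) _) hsQ s.2).symm ▸
        maximalIdeal.isMaximal A
    have hQP' : Q.comap (algebraMap B R) = P :=
      (Ideal.isMaximal_of_isIntegral_of_isMaximal_comap (Q.comap (algebraMap B R)) hm).eq_of_le
        hP.ne_top hQP
    have : Q = maximalIdeal R :=
      (IsLocalization.map_comap P.primeCompl R Q).symm.trans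
        ((congrArg (Ideal.map (algebraMap B R)) hQP').trans
          (IsLocalization.AtPrime.map_eq_maximalIdeal P R))
    rw [this]
    exact maximalIdeal.isMaximal R⟩
  have : IsNoetherianRing R := IsLocalization.isNoetherianRing P.primeCompl R inferInstance
  have : IsDedekindDomain R := { }
  exact ((IsDiscreteValuationRing.TFAE R hnf).out 2 0).1 this

omit [IsReduced A] [IsNoetherianRing A] [Algebra A B] [Module.Finite A B] in
theorem mem_pow_of_map_mem [IsLocalRing R] {b : B} {n : ℕ}
    (h : algebraMap B R b ∈ maximalIdeal R ^ n) : b ∈ P ^ n := by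
  rw [← IsLocalization.AtPrime.map_eq_maximalIdeal P R, ← Ideal.map_pow,
    IsLocalization.algebraMap_mem_map_algebraMap_iff P.primeCompl] at h
  obtain ⟨u, hu, hub⟩ := h
  have hc : Ideal.span {u} ⊔ P ^ n = ⊤ := Ideal.sup_pow_eq_top (by
    by_contra hne
    have := hP.eq_of_le hne le_sup_right
    exact hu (this ▸ Ideal.mem_sup_left (Ideal.mem_span_singleton_self u)))
  obtain ⟨x, hx, y, hy, hxy⟩ := Submodule.mem_sup.1 ((Ideal.eq_top_iff_one _).1 hc)
  obtain ⟨t, rfl⟩ := Ideal.mem_span_singleton.1 hx
  rw [show b = t * (u * b) + b * y by linear_combination b * hxy.symm]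
  exact add_mem (Ideal.mul_mem_left _ _ hub) (Ideal.mul_mem_left _ _ hy)

end normalization

section count

variable (A : Type u) [CommRing A] [IsNoetherianRing A] [IsLocalRing A] [IsReduced A]
  (K : Type u) [CommRing K] [Algebra A K] [IsFractionRing A K]
  (B : Type u) [CommRing B] [Algebra A B] [Algebra B K] [IsScalarTower A B K]
  [IsIntegralClosure B A K] [Module.Finite A B]

omit [IsReduced A] in
include A in
theorem finite_maximal : {P : Ideal B | P.IsMaximal}.Finite := by
  refine Set.Finite.subset (Algebra.QuasiFinite.finite_primesOver (R := A) (S := B) (maximalIdeal A))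
    fun P hP => ⟨hP.isPrime, ⟨?_⟩⟩
  have : P.IsMaximal := hP
  exact (comap_maximal B P).symm

omit [IsReduced A] in
/-- A power of the intersection of the maximal ideals lies in `m B`. -/
theorem exists_iInf_pow_le :
    ∃ e, (⨅ P : {P : Ideal B // P.IsMaximal}, P.1) ^ e ≤ (maximalIdeal A).map (algebraMap A B) := by
  have : IsNoetherianRing B := IsNoetherianRing.of_finite A B
  have : Algebra.IsIntegral A B := Algebra.IsIntegral.of_finite A B
  refine Ideal.exists_pow_le_of_le_radical_of_fg ?_ (IsNoetherian.noetherian _)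
  rw [Ideal.radical_eq_sInf]
  refine le_sInf fun Q ⟨hle, hQ⟩ => ?_
  have hm : (Q.comap (algebraMap A B)).IsMaximal :=
    ((maximalIdeal.isMaximal A).eq_of_le (Ideal.IsPrime.comap (hK := hQ) _).ne_top
      (Ideal.map_le_iff_le_comap.1 hle)) ▸ maximalIdeal.isMaximal A
  exact iInf_le_of_le ⟨Q, Ideal.isMaximal_of_isIntegral_of_isMaximal_comap Q hm⟩ le_rfl

/-- For pairwise comaximal ideals the intersection of powers is in the power of the intersection. -/
theorem iInf_pow_le {S : Type u} [CommRing S] {ι : Type u} [Finite ι] (P : ι → Ideal S)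
    (hP : Pairwise fun i j => IsCoprime (P i) (P j)) (n : ℕ) :
    ⨅ i, P i ^ n ≤ (⨅ i, P i) ^ n := by
  classical
  have := Fintype.ofFinite ι
  have h1 : ∏ i, P i = ⨅ i, P i := by
    rw [Ideal.prod_eq_iInf_of_pairwise_isCoprime (fun i _ j _ hij => hP hij)]
    simp
  have h2 : ∏ i, P i ^ n = ⨅ i, P i ^ n := by
    rw [Ideal.prod_eq_iInf_of_pairwise_isCoprime (fun i _ j _ hij => (hP hij).pow)]
    simp
  rw [← h2, Finset.prod_pow, h1]

/-- An element congruent to one modulo `P i ^ n` and to zero modulo the other powers. -/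
theorem exists_crt {S : Type u} [CommRing S] {ι : Type u} [Finite ι] (P : ι → Ideal S)
    (hP : Pairwise fun i j => IsCoprime (P i) (P j)) (i : ι) (n : ℕ) :
    ∃ b : S, b - 1 ∈ P i ^ n ∧ ∀ j, j ≠ i → b ∈ P j ^ n := by
  classical
  obtain ⟨z, hz⟩ := Ideal.pi_quotient_surjective (I := fun j => P j ^ n)
    (fun j k hjk => (hP hjk).pow) (Pi.single i 1)
  refine ⟨z, ?_, fun j hj => ?_⟩
  · rw [← Ideal.Quotient.eq_zero_iff_mem, map_sub, map_one, sub_eq_zero]
    exact (hz i).trans (Pi.single_eq_same _ _)
  · rw [← Ideal.Quotient.eq_zero_iff_mem]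
    exact (hz j).trans (Pi.single_eq_of_ne hj _)

include K in
theorem main (hdim : ringKrullDim A = 1) :
    {P : Ideal B | P.IsMaximal}.ncard =
      (minimalPrimes (AdicCompletion (maximalIdeal A) A)).ncard := by
  classical
  let I := maximalIdeal A
  let Ah := AdicCompletion I A
  let ι := {P : Ideal B // P.IsMaximal}
  haveI : Finite ι := (finite_maximal A B).to_subtype
  haveI : ∀ i : ι, i.1.IsMaximal := fun i => i.2
  let R : ι → Type u := fun i => Localization.AtPrime i.1
  let g : ∀ i : ι, A →+* R i := fun i => (algebraMap B (R i)).comp (algebraMap A B)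
  have hI : ∀ (i : ι) (n : ℕ), I ^ n ≤ (maximalIdeal (R i) ^ n).comap (g i) := fun i n =>
    (Ideal.pow_right_mono (fun a ha => by
      rw [Ideal.mem_comap, ← IsLocalization.AtPrime.map_eq_maximalIdeal i.1 (R i)]
      exact Ideal.mem_map_of_mem _ (Ideal.mem_comap.1 ((SetLike.ext_iff.1 (comap_maximal (A := A) B i.1) a).2 ha))) n).trans
      (Ideal.le_comap_pow (g i) n)
  let π : ∀ i : ι, Ah →+* AdicCompletion (maximalIdeal (R i)) (R i) := fun i =>
    AdicCompletion.liftRingHom _
      (fun n => (Ideal.quotientMap _ _ (hI i n)).comp (AdicCompletion.evalₐ I n).toRingHom)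
      (fun {m n} hle => by
        refine RingHom.ext fun x => ?_
        obtain ⟨f, hf⟩ := exists_seq x
        simp only [RingHom.coe_comp, Function.comp_apply, AlgHom.toRingHom_eq_coe, RingHom.coe_coe]
        rw [hf, hf]
        refine Ideal.Quotient.eq.2 ?_
        rw [← map_sub]
        exact hI i m (seq_sub_mem f hle))
  have hev : ∀ (i : ι) (x : Ah) (n : ℕ) (a : A), AdicCompletion.evalₐ I n x = Ideal.Quotient.mk _ a →
      AdicCompletion.evalₐ (maximalIdeal (R i)) n (π i x) = Ideal.Quotient.mk _ (g i a) := by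
    intro i x n a ha
    refine (AdicCompletion.evalₐ_liftRingHom _ _ _ n x).trans ?_
    simp only [RingHom.coe_comp, Function.comp_apply, AlgHom.toRingHom_eq_coe, RingHom.coe_coe]
    rw [ha]
    rfl
  have hprime : ∀ i, (RingHom.ker (π i)).IsPrime := by
    intro i
    obtain ⟨_, hdvr, -⟩ := exists_dvr K B i.1 (R i) hdim
    obtain ⟨ϖ, hϖ⟩ := IsDiscreteValuationRing.exists_irreducible (R i)
    have hspan : maximalIdeal (R i) = span {ϖ} :=
      (IsDiscreteValuationRing.irreducible_iff_uniformizer ϖ).1 hϖ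
    haveI : NoZeroDivisors (AdicCompletion (maximalIdeal (R i)) (R i)) :=
      ⟨fun {x y} h => eq_zero_or_eq_zero_completion (R i) hspan
        (mem_nonZeroDivisors_of_ne_zero hϖ.ne_zero) x y h⟩
    haveI : Nontrivial (AdicCompletion (maximalIdeal (R i)) (R i)) := by
      refine ⟨0, 1, fun h => ?_⟩
      have h1 := congrArg (AdicCompletion.evalₐ (maximalIdeal (R i)) 1) h
      rw [map_zero, map_one] at h1
      have : Nontrivial (R i ⧸ maximalIdeal (R i) ^ 1) :=
        Ideal.Quotient.nontrivial_iff.2 (by rw [pow_one]; exact (maximalIdeal.isMaximal _).ne_top)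
      exact zero_ne_one h1
    haveI : IsDomain (AdicCompletion (maximalIdeal (R i)) (R i)) := NoZeroDivisors.to_isDomain _
    exact RingHom.ker_isPrime (π i)
  obtain ⟨c, hc, hcond⟩ := exists_conductor (A := A) K B
  obtain ⟨d₀, hd₀⟩ := exists_iInf_pow_le A B
  obtain ⟨d, hd1, hd⟩ : ∃ d, 1 ≤ d ∧ (⨅ P : ι, P.1) ^ d ≤ I.map (algebraMap A B) :=
    ⟨d₀ + 1, by omega, (Ideal.pow_le_pow_right (Nat.le_succ d₀)).trans hd₀⟩
  have hkd : ∀ k, k ≤ d * k := fun k => Nat.le_mul_of_pos_left k hd1
  have hcop : Pairwise fun i j : ι => IsCoprime i.1 j.1 := fun i j hij =>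
    Ideal.isCoprime_iff_sup_eq.2 (Ideal.IsMaximal.coprime_of_ne i.2 j.2 fun h => hij (Subtype.ext h))
  have hint : ∀ k, ⨅ i : ι, i.1 ^ (d * k) ≤ (I ^ k).map (algebraMap A B) := fun k => by
    refine (iInf_pow_le _ hcop _).trans ?_
    rw [pow_mul, Ideal.map_pow]
    exact Ideal.pow_right_mono hd k
  have hinj := injective_algebraMap (A := A) K B
  have hcI : ∀ (k : ℕ) (b : B) (a : A), b ∈ (I ^ k).map (algebraMap A B) →
      algebraMap A B a = algebraMap A B c * b → a ∈ I ^ k := by
    intro k b a hb ha
    suffices h : ∃ a' ∈ I ^ k, algebraMap A B a' = algebraMap A B c * b by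
      obtain ⟨a', ha', h'⟩ := h
      rwa [hinj (ha.trans h'.symm)]
    have hb' : b ∈ (I ^ k) • (⊤ : Submodule A B) := by
      rw [Ideal.smul_top_eq_map]; exact hb
    refine Submodule.smul_induction_on hb' (fun μ hμ z _ => ?_) (fun x y hx hy => ?_)
    · obtain ⟨a₂, e₂⟩ := hcond z
      exact ⟨μ * a₂, Ideal.mul_mem_right _ _ hμ, by rw [map_mul, e₂, Algebra.smul_def]; ring⟩
    · obtain ⟨a₁, h₁, e₁⟩ := hx
      obtain ⟨a₂, h₂, e₂⟩ := hy
      exact ⟨a₁ + a₂, add_mem h₁ h₂, by rw [map_add, mul_add, e₁, e₂]⟩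
  -- the branches are jointly injective
  have hreg : IsSMulRegular Ah c := Module.Flat.isSMulRegular_of_nonZeroDivisors hc
  have hjoint : ∀ x : Ah, (∀ i, π i x = 0) → x = 0 := by
    intro x hx
    obtain ⟨f, hf⟩ := exists_seq x
    have hcx : c • x = 0 := by
      apply AdicCompletion.ext_evalₐ
      intro k
      rw [map_zero, map_smul, hf, Algebra.smul_def, Ideal.Quotient.algebraMap_eq, ← map_mul,
        Ideal.Quotient.eq_zero_iff_mem]
      have h1 : algebraMap A B (f (d * k)) ∈ ⨅ i : ι, i.1 ^ (d * k) := by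
        rw [Submodule.mem_iInf]
        intro i
        have h := hev i x (d * k) (f (d * k)) (hf _)
        rw [hx i, map_zero, eq_comm, Ideal.Quotient.eq_zero_iff_mem] at h
        exact mem_pow_of_map_mem B i.1 (R i) h
      have h2 : c * f (d * k) ∈ I ^ k := hcI k _ _ (hint k h1) (map_mul _ _ _)
      rw [show c * f k = c * f (d * k) - c * (f (d * k) - f k) by ring]
      exact sub_mem h2 (Ideal.mul_mem_left _ _ (seq_sub_mem f (hkd k)))
    exact hreg (show c • x = c • (0 : Ah) by rw [hcx, smul_zero])
  -- separating elements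
  have hsep : ∀ i, ∃ y : Ah, π i y ≠ 0 ∧ ∀ j, j ≠ i → π j y = 0 := by
    intro i
    choose b hb1 hb0 using fun k => exists_crt (fun j : ι => j.1) hcop i (d * k)
    choose a ha using fun k => hcond (b k)
    have hcauchy : ∀ k, a k ≡ a (k + 1) [SMOD (I ^ k • ⊤ : Submodule A A)] := by
      intro k
      rw [SModEq.sub_mem, Ideal.smul_eq_mul, Ideal.mul_top]
      refine hcI k (b k - b (k + 1)) _ (hint k ?_) (by rw [map_sub, ha, ha, mul_sub])
      rw [Submodule.mem_iInf]
      intro j
      have hle : j.1 ^ (d * (k + 1)) ≤ j.1 ^ (d * k) := Ideal.pow_le_pow_right (Nat.mul_le_mul_left d k.le_succ)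
      by_cases hj : j = i
      · subst hj
        rw [show b k - b (k + 1) = (b k - 1) - (b (k + 1) - 1) by ring]
        exact sub_mem (hb1 k) (hle (hb1 (k + 1)))
      · exact sub_mem (hb0 k j hj) (hle (hb0 (k + 1) j hj))
    let y : Ah := AdicCompletion.mk I A (AdicCompletion.AdicCauchySequence.mk I A a hcauchy)
    have hy : ∀ k, AdicCompletion.evalₐ I k y = Ideal.Quotient.mk _ (a k) := fun k =>
      AdicCompletion.evalₐ_mk I k _
    have hga : ∀ (j : ι) k, g j (a k) = g j c * algebraMap B (R j) (b k) := fun j k => by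
      show algebraMap B (R j) (algebraMap A B (a k)) = _
      rw [ha, map_mul]; rfl
    have hRpow : ∀ (j : ι) (k : ℕ) (z : B), z ∈ j.1 ^ (d * k) →
        algebraMap B (R j) z ∈ maximalIdeal (R j) ^ k := fun j k z hz => by
      have h := Ideal.mem_map_of_mem (algebraMap B (R j)) (Ideal.pow_le_pow_right (hkd k) hz)
      rwa [Ideal.map_pow, IsLocalization.AtPrime.map_eq_maximalIdeal] at h
    refine ⟨y, fun h0 => ?_, fun j hj => ?_⟩
    · obtain ⟨_, -, hnz⟩ := exists_dvr K B i.1 (R i) hdim
      have hi : IsNoetherianRing B := IsNoetherianRing.of_finite A B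
      haveI : IsNoetherianRing (R i) := IsLocalization.isNoetherianRing i.1.primeCompl (R i) hi
      have hall : g i c ∈ ⨅ k : ℕ, maximalIdeal (R i) ^ k := by
        rw [Submodule.mem_iInf]
        intro k
        have h := hev i y k _ (hy k)
        rw [h0, map_zero, eq_comm, Ideal.Quotient.eq_zero_iff_mem, hga] at h
        rw [show g i c = g i c * algebraMap B (R i) (b k) - g i c * algebraMap B (R i) (b k - 1) by
          rw [map_sub, map_one]; ring]
        exact sub_mem h (Ideal.mul_mem_left _ _ (hRpow i k _ (hb1 k)))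
      rw [Ideal.iInf_pow_eq_bot_of_isLocalRing _ (maximalIdeal.isMaximal (R i)).ne_top,
        Ideal.mem_bot] at hall
      exact hnz c hc hall
    · apply AdicCompletion.ext_evalₐ
      intro k
      rw [map_zero, hev j y k _ (hy k), Ideal.Quotient.eq_zero_iff_mem, hga]
      exact Ideal.mul_mem_left _ _ (hRpow j k _ (hb0 k j hj))
  have hle : ∀ i j, RingHom.ker (π i) ≤ RingHom.ker (π j) → i = j := by
    intro i j h
    by_contra hij
    obtain ⟨y, hy, hy'⟩ := hsep j
    exact hy (h (hy' i hij))
  have hex : ∀ Q : Ideal Ah, Q.IsPrime → ∃ i, RingHom.ker (π i) ≤ Q := by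
    intro Q hQ
    have := Fintype.ofFinite ι
    have h : ∏ i, RingHom.ker (π i) ≤ Q := by
      refine (Ideal.prod_le_inf.trans ?_)
      intro x hx
      rw [hjoint x fun i => (Submodule.mem_finsetInf.1 hx i (Finset.mem_univ i))]
      exact Q.zero_mem
    obtain ⟨i, -, hi⟩ := hQ.prod_le.1 h
    exact ⟨i, hi⟩
  have hset : minimalPrimes Ah = Set.range fun i => RingHom.ker (π i) := by
    ext Q
    constructor
    · intro hQ
      obtain ⟨i, hi⟩ := hex Q hQ.1.1
      exact ⟨i, le_antisymm hi (hQ.2 ⟨hprime i, bot_le⟩ hi)⟩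
    · rintro ⟨i, rfl⟩
      refine ⟨⟨hprime i, bot_le⟩, fun Q hQ hQi => ?_⟩
      obtain ⟨j, hj⟩ := hex Q hQ.1
      rwa [hle j i (hj.trans hQi)] at hj
  rw [hset, Set.ncard_range_of_injective fun i j h => hle i j h.le]
  exact Nat.card_coe_set_eq _ |>.symm

end count

end NormBranchLib
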